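import Mathlib
import Groth.Prelude.Def_ActBC

/-!
# Base change to a field-valued point: density, finite type, surjectivity
-/

set_option autoImplicit false
universe u

open CategoryTheory MonoidalCategory CartesianMonoidalCategory MonObj GrpObj AlgebraicGeometry Limits

namespace Groth.Agent.Lib.Helper24.HomogSep

section fibre

variable {X S : Scheme.{u}} (f : X ⟶ S) (s : S) {K : Type u} [Field K]
  (ψ : S.residueField s ⟶ CommRingCat.of K)

/-- the comparison from the base change to `Spec K` to the fibre -/
noncomputable def toFiber :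
    pullback f (Spec.map ψ ≫ S.fromSpecResidueField s) ⟶ f.fiber s :=
  pullback.lift (pullback.fst _ _) (pullback.snd _ _ ≫ Spec.map ψ)
    (by rw [pullback.condition, Category.assoc])

theorem toFiber_fiberι : toFiber f s ψ ≫ f.fiberι s = pullback.fst _ _ :=
  pullback.lift_fst _ _ _

theorem isPullback_toFiber :
    IsPullback (toFiber f s ψ) (pullback.snd f (Spec.map ψ ≫ S.fromSpecResidueField s))
      (f.fiberToSpecResidueField s) (Spec.map ψ) := by
  refine IsPullback.of_right (h₁₂ := f.fiberι s) (h₂₂ := S.fromSpecResidueField s) (v₁₃ := f) ?_ ?_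
    (IsPullback.of_hasPullback f (S.fromSpecResidueField s))
  · rw [toFiber_fiberι]
    exact IsPullback.of_hasPullback f _
  · exact pullback.lift_snd _ _ _

theorem locallyOfFiniteType_snd [LocallyOfFiniteType (f.fiberToSpecResidueField s)] :
    LocallyOfFiniteType (pullback.snd f (Spec.map ψ ≫ S.fromSpecResidueField s)) :=
  MorphismProperty.of_isPullback (P := @LocallyOfFiniteType) (isPullback_toFiber f s ψ)
    inferInstance

theorem isOpenMap_toFiber : IsOpenMap (toFiber f s ψ).base := by
  haveI : UniversallyOpen (Spec.map ψ) := inferInstance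
  haveI : UniversallyOpen (toFiber f s ψ) :=
    MorphismProperty.of_isPullback (P := @UniversallyOpen) (isPullback_toFiber f s ψ).flip
      inferInstance
  exact (toFiber f s ψ).isOpenMap

/-- an open of `X` whose trace on the fibre at `s` is dense becomes dense after base change to a
field-valued point over `s` -/
theorem dense_preimage_of_fibre_dense (U : X.Opens)
    (hU : f.base ⁻¹' {s} ⊆ closure ((U : Set X) ∩ f.base ⁻¹' {s})) :
    Dense ((pullback.fst f (Spec.map ψ ≫ S.fromSpecResidueField s) ⁻¹ᵁ U :
      (pullback f (Spec.map ψ ≫ S.fromSpecResidueField s)).Opens) :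
      Set ↥(pullback f (Spec.map ψ ≫ S.fromSpecResidueField s))) := by
  rw [dense_iff_inter_open]
  rintro N hN ⟨p, hp⟩
  have hqN : IsOpen ((toFiber f s ψ).base '' N) := isOpenMap_toFiber f s ψ N hN
  obtain ⟨O, hO, hOq⟩ := (f.fiberι s).isEmbedding.isInducing.isOpen_iff.1 hqN
  have hx : (f.fiberι s).base ((toFiber f s ψ).base p) ∈ f.base ⁻¹' {s} := by
    rw [← Scheme.Hom.range_fiberι]
    exact ⟨_, rfl⟩
  have hxO : (f.fiberι s).base ((toFiber f s ψ).base p) ∈ O := by
    change (toFiber f s ψ).base p ∈ (f.fiberι s).base ⁻¹' O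
    rw [hOq]
    exact ⟨p, hp, rfl⟩
  obtain ⟨u, huO, huU, hus⟩ := mem_closure_iff.1 (hU hx) O hO hxO
  rw [← Scheme.Hom.range_fiberι] at hus
  obtain ⟨v, rfl⟩ := hus
  have hv : v ∈ (f.fiberι s).base ⁻¹' O := huO
  rw [hOq] at hv
  obtain ⟨n, hn, rfl⟩ := hv
  refine ⟨n, hn, ?_⟩
  change (pullback.fst f (Spec.map ψ ≫ S.fromSpecResidueField s)).base n ∈ U
  rw [← toFiber_fiberι, Scheme.Hom.comp_apply]
  exact huU

end fibre

section bc

variable {S S' : Scheme.{u}} (g : S' ⟶ S)

theorem isPullback_pullback_map {X Y : Over S} (k : X ⟶ Y) :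
    IsPullback ((Over.pullback g).map k).left (pullback.fst X.hom g) (pullback.fst Y.hom g)
      k.left := by
  refine IsPullback.of_right (h₁₂ := pullback.snd Y.hom g) (h₂₂ := Y.hom) (v₁₃ := g) ?_ ?_
    (IsPullback.of_hasPullback Y.hom g).flip
  · have h1 : ((Over.pullback g).map k).left ≫ pullback.snd Y.hom g = pullback.snd X.hom g :=
      Over.w ((Over.pullback g).map k)
    rw [h1, Over.w k]
    exact (IsPullback.of_hasPullback X.hom g).flip
  · exact ActBC.pullback_map_left_fst g k

theorem surjective_pullback_map {X Y : Over S} (k : X ⟶ Y) (hk : Surjective k.left) :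
    Surjective ((Over.pullback g).map k).left :=
  MorphismProperty.of_isPullback (P := @Surjective) (isPullback_pullback_map g k).flip hk

variable {G X : Over S} [GrpObj G] (a : AlgGrp.Action G X)

theorem surjective_bc (hΦ : Surjective (lift a.act (snd G X)).left) :
    Surjective (lift (a.bc g).act (snd (Red.bc g G) (Red.bc g X))).left := by
  have key : lift (a.bc g).act (snd _ _) ≫ Functor.LaxMonoidal.μ (Over.pullback g) X X =
      Functor.LaxMonoidal.μ (Over.pullback g) G X ≫
        (Over.pullback g).map (lift a.act (snd G X)) := by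
    rw [← Functor.Monoidal.lift_μ, comp_lift_assoc, Functor.Monoidal.μ_snd,
      AlgGrp.Action.bc_act]
  have h1 : Surjective ((Over.pullback g).map (lift a.act (snd G X))).left :=
    surjective_pullback_map g _ hΦ
  have h2 : lift (a.bc g).act (snd (Red.bc g G) (Red.bc g X)) =
      Functor.LaxMonoidal.μ (Over.pullback g) G X ≫
        (Over.pullback g).map (lift a.act (snd G X)) ≫
          inv (Functor.LaxMonoidal.μ (Over.pullback g) X X) := by
    rw [← Category.assoc, ← key, Category.assoc, IsIso.hom_inv_id, Category.comp_id]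
  rw [h2, Over.comp_left, Over.comp_left]
  haveI : IsIso (Functor.LaxMonoidal.μ (Over.pullback g) G X).left :=
    inferInstanceAs (IsIso ((Over.forget _).map (Functor.LaxMonoidal.μ (Over.pullback g) G X)))
  haveI : IsIso (inv (Functor.LaxMonoidal.μ (Over.pullback g) X X)).left :=
    inferInstanceAs (IsIso ((Over.forget _).map (inv (Functor.LaxMonoidal.μ (Over.pullback g) X X))))
  infer_instance

end bc

end Groth.Agent.Lib.Helper24.HomogSep
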