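import Mathlib
import Groth.Prelude.Def_ChGrp
import Groth.Agent.Lib.Helper4.ActShear2

/-!
# Translation by a section of the group
-/

set_option autoImplicit false
universe u

open CategoryTheory MonoidalCategory CartesianMonoidalCategory MonObj GrpObj AlgebraicGeometry Limits

namespace Groth.Agent.Lib.Helper24.HomogSep

open Groth.Agent.Lib.Helper4.ActShear Groth.Agent.Lib.Helper4.ActShear2

variable {S : Scheme.{u}} {G X : Over S} [GrpObj G] (a : AlgGrp.Action G X)

/-- translation of `X` by a section `g` of `G` -/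
noncomputable def tr (g : 𝟙_ (Over S) ⟶ G) : X ⟶ X := smul a (toUnit X ≫ g) (𝟙 X)

theorem comp_tr {T : Over S} (x : T ⟶ X) (g : 𝟙_ (Over S) ⟶ G) :
    x ≫ tr a g = smul a (toUnit T ≫ g) x := by
  unfold tr
  rw [comp_smul, ← Category.assoc, toUnit_unique (x ≫ toUnit X) (toUnit T), Category.comp_id]

theorem tr_inv (g : 𝟙_ (Over S) ⟶ G) : tr a g ≫ tr a (g ≫ ι[G]) = 𝟙 X := by
  rw [comp_tr]
  unfold tr
  rw [← Category.assoc, Groth.Agent.Lib.Helper4.ActShear.inv_smul_smul]

theorem inv_tr (g : 𝟙_ (Over S) ⟶ G) : tr a (g ≫ ι[G]) ≫ tr a g = 𝟙 X := by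
  rw [comp_tr]
  unfold tr
  rw [← Category.assoc, Groth.Agent.Lib.Helper4.ActShear.smul_inv_smul]

/-- translation as an automorphism -/
noncomputable def trIso (g : 𝟙_ (Over S) ⟶ G) : X ≅ X where
  hom := tr a g
  inv := tr a (g ≫ ι[G])
  hom_inv_id := tr_inv a g
  inv_hom_id := inv_tr a g

/-- the orbit map intertwines left translation on `G` with translation on `X` -/
theorem tr_orbitMap (x : 𝟙_ (Over S) ⟶ X) (g : 𝟙_ (Over S) ⟶ G) :
    tr (selfAct G) g ≫ a.orbitMap x = a.orbitMap x ≫ tr a g := by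
  rw [comp_tr, AlgGrp.Action.comp_orbitMap]
  change smul a (tr (selfAct G) g) (toUnit G ≫ x) = _
  have h1 : tr (selfAct G) g = lift (toUnit G ≫ g) (𝟙 G) ≫ μ[G] := rfl
  rw [h1, mul_smul']
  have h2 := AlgGrp.Action.comp_orbitMap a (𝟙 G) x
  rw [Category.id_comp] at h2
  rw [h2]
  rfl

theorem point_tr (c g : 𝟙_ (Over S) ⟶ G) : c ≫ tr (selfAct G) g = g * c := by
  rw [comp_tr, Hom.mul_def]
  unfold smul
  rw [toUnit_unique (toUnit (𝟙_ (Over S))) (𝟙 _), Category.id_comp]
  rfl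

end Groth.Agent.Lib.Helper24.HomogSep
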