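import Mathlib
import Groth.Agent.Lib.Helper24.Unibranch.Main
import Groth.Agent.Lib.Helper4.GrpToGrpd

/-!
# A connected group scheme locally of finite type over a field is irreducible
-/

set_option autoImplicit false
universe u

open CategoryTheory MonoidalCategory CartesianMonoidalCategory MonObj GrpObj AlgebraicGeometry Limits
open TopologicalSpace

namespace Groth.Agent.Lib.Helper24.HomogSep

open Groth.Agent.Lib.Helper24.Unibranch

/-- in a locally Noetherian scheme all of whose points lie on a single irreducible component, the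
irreducible components are open -/
theorem isOpen_irreducibleComponent_of_uMax {X : Scheme.{u}} [IsLocallyNoetherian X]
    (h : ∀ x : X, UMax x) (x : X) : IsOpen (irreducibleComponent x) := by
  rw [isOpen_iff_mem_nhds]
  intro y hy
  -- the only irreducible component through `y` is `irreducibleComponent x`
  have huniq : ∀ Z : Set X, Z ∈ irreducibleComponents X → y ∈ Z → Z = irreducibleComponent x := by
    intro Z hZ hyZ
    obtain ⟨Z₀, -, hZ₀⟩ := (h y).existsUnique_irreducibleComponent
    rw [hZ₀ Z ⟨hZ, hyZ⟩, hZ₀ _ ⟨irreducibleComponent_mem_irreducibleComponents x, hy⟩]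
  obtain ⟨V, hV, hyV, -⟩ :=
    exists_isAffineOpen_mem_and_subset (x := y) (U := (⊤ : X.Opens)) trivial
  haveI : IsNoetherianRing Γ(X, V) := IsLocallyNoetherian.component_noetherian ⟨V, hV⟩
  haveI : NoetherianSpace V := noetherianSpace_of_isAffineOpen V hV
  let y' : V := ⟨y, hyV⟩
  let 𝒜 : Set (Set V) := {Z | Z ∈ irreducibleComponents V ∧ y' ∉ Z}
  have h𝒜fin : 𝒜.Finite :=
    (NoetherianSpace.finite_irreducibleComponents (α := V)).subset (fun Z hZ => hZ.1)
  have hBcl : IsClosed (⋃₀ 𝒜) := by
    rw [Set.sUnion_eq_biUnion]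
    exact h𝒜fin.isClosed_biUnion (fun Z hZ => isClosed_of_mem_irreducibleComponents Z hZ.1)
  have hO : IsOpen (Subtype.val '' ((⋃₀ 𝒜)ᶜ : Set V)) :=
    V.2.isOpenMap_subtype_val _ hBcl.isOpen_compl
  have hyO : y ∈ Subtype.val '' ((⋃₀ 𝒜)ᶜ : Set V) := by
    refine ⟨y', ?_, rfl⟩
    rintro ⟨Z, hZ, hyZ⟩
    exact hZ.2 hyZ
  refine Filter.mem_of_superset (hO.mem_nhds hyO) ?_
  rintro _ ⟨p, hp, rfl⟩
  -- `p` lies on a component of `V` through `y'`
  have hp' : p ∈ ⋃₀ irreducibleComponents V := by
    rw [sUnion_irreducibleComponents]; trivial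
  obtain ⟨Z, hZ, hpZ⟩ := hp'
  have hyZ : y' ∈ Z := by
    by_contra hcon
    exact hp ⟨Z, ⟨hZ, hcon⟩, hpZ⟩
  have hZirr : IsIrreducible (Subtype.val '' Z : Set X) :=
    hZ.1.image _ continuous_subtype_val.continuousOn
  obtain ⟨Z', hZ', hZZ'⟩ := exists_mem_irreducibleComponents_subset_of_isIrreducible _ hZirr
  have hyZ' : y ∈ Z' := hZZ' ⟨y', hyZ, rfl⟩
  rw [← huniq Z' hZ' hyZ']
  exact hZZ' ⟨p, hpZ, rfl⟩

theorem irreducibleSpace_of_uMax {X : Scheme.{u}} [IsLocallyNoetherian X] [ConnectedSpace X]
    (h : ∀ x : X, UMax x) : IrreducibleSpace X := by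
  obtain ⟨x⟩ := (inferInstance : Nonempty X)
  have hclopen : IsClopen (irreducibleComponent x) :=
    ⟨isClosed_irreducibleComponent, isOpen_irreducibleComponent_of_uMax h x⟩
  have huniv : irreducibleComponent x = Set.univ :=
    hclopen.eq_univ ⟨x, mem_irreducibleComponent⟩
  rw [irreducibleSpace_def]
  change IsIrreducible (Set.univ : Set X)
  rw [← huniv]
  exact isIrreducible_irreducibleComponent

/-- a connected group scheme locally of finite type over a field is irreducible -/
theorem irreducibleSpace_of_grpObj (K : Type u) [Field K] (G : Over (Spec (CommRingCat.of K)))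
    [GrpObj G] [LocallyOfFiniteType G.hom] [ConnectedSpace G.left] : IrreducibleSpace G.left := by
  haveI : IsLocallyNoetherian G.left := LocallyOfFiniteType.isLocallyNoetherian G.hom
  apply irreducibleSpace_of_uMax
  intro x
  exact uMax_all (Groth.Agent.Lib.Helper4.GrpToGrpd.ofGrp G) K (Iso.refl _) x

end Groth.Agent.Lib.Helper24.HomogSep
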