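import Mathlib
import Groth.Agent.S0414
import Groth.Agent.Lib.Helper24.Homog.KPoints

/-!
# Flatness of surjective morphisms with enough symmetries

A surjective morphism of schemes locally of finite type over an algebraically closed field, with
reduced target, such that any two rational points of the source are exchanged by a compatible pair
of automorphisms of source and target, is flat (generic flatness + translation).
-/

set_option autoImplicit false
universe u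

open AlgebraicGeometry CategoryTheory Limits TopologicalSpace

namespace Groth.Agent.Lib.Helper24.HomogSep

/-- the generic point of an irreducible component of a Noetherian space lies in every dense open -/
theorem mem_of_dense_of_closure_mem_irreducibleComponents {α : Type*} [TopologicalSpace α]
    [NoetherianSpace α] {η : α} (hη : closure {η} ∈ irreducibleComponents α) {U : Set α}
    (hU : IsOpen U) (hd : Dense U) : η ∈ U := by
  obtain ⟨o, ho, hne, hsub⟩ :=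
    NoetherianSpace.exists_isOpen_nonempty_subset_irreducibleComponent _ hη
  obtain ⟨u, huU, huo⟩ := hd.inter_open_nonempty o ho hne
  have h1 : η ⤳ u := specializes_iff_mem_closure.2 (hsub huU)
  exact h1.mem_open hU huo

/-- a surjective morphism locally of finite type to a nonempty reduced locally Noetherian scheme is
flat on some nonempty open of the source -/
theorem exists_flat_open {Y Z : Scheme.{u}} (f : Y ⟶ Z) [IsLocallyNoetherian Z] [IsReduced Z]
    [LocallyOfFiniteType f] [Surjective f] [Nonempty Z] :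
    ∃ V : Y.Opens, (V : Set Y).Nonempty ∧ Flat (V.ι ≫ f) := by
  obtain ⟨p⟩ := ‹Nonempty Z›
  obtain ⟨Z₁, hZ₁, hpZ₁, -⟩ :=
    exists_isAffineOpen_mem_and_subset (x := p) (U := (⊤ : Z.Opens)) trivial
  haveI : IsNoetherianRing Γ(Z, Z₁) := IsLocallyNoetherian.component_noetherian ⟨Z₁, hZ₁⟩
  haveI : NoetherianSpace Z₁ := noetherianSpace_of_isAffineOpen Z₁ hZ₁
  let C : Set Z₁ := irreducibleComponent (⟨p, hpZ₁⟩ : Z₁)
  have hC : C ∈ irreducibleComponents Z₁ := irreducibleComponent_mem_irreducibleComponents _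
  have hCirr : IsIrreducible C := isIrreducible_irreducibleComponent
  have hCcl : IsClosed C := isClosed_irreducibleComponent
  obtain ⟨η, hη⟩ := QuasiSober.sober hCirr hCcl
  obtain ⟨ξ, hξ⟩ := f.surjective η.1
  have hξZ₁ : ξ ∈ f ⁻¹ᵁ Z₁ := by
    change f.base ξ ∈ Z₁
    rw [hξ]
    exact η.2
  obtain ⟨V, hV, hξV, hVle₀⟩ := exists_isAffineOpen_mem_and_subset (x := ξ) (U := f ⁻¹ᵁ Z₁) hξZ₁
  have hVle : V ≤ f ⁻¹ᵁ Z₁ := hVle₀
  let f₁ : V.toScheme ⟶ Z₁.toScheme := f.resLE Z₁ V hVle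
  haveI : IsAffine V.toScheme := hV
  haveI : IsAffine Z₁.toScheme := hZ₁
  have hf₁ι : f₁ ≫ Z₁.ι = V.ι ≫ f := Scheme.Hom.resLE_comp_ι f hVle
  haveI : LocallyOfFiniteType f₁ := inferInstanceAs (LocallyOfFiniteType (f.resLE Z₁ V hVle))
  haveI : IsReduced Z₁.toScheme := inferInstance
  obtain ⟨U, hUd, hUflat, -⟩ := Groth.Agent.S0414.result f₁
  have hηU : η ∈ (U : Set Z₁) :=
    mem_of_dense_of_closure_mem_irreducibleComponents (by rw [hη.def]; exact hC) U.2 hUd
  have hf₁ξ : f₁.base ⟨ξ, hξV⟩ = η := by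
    apply Subtype.ext
    exact (Scheme.Hom.coe_resLE_apply f hVle ⟨ξ, hξV⟩).trans hξ
  refine ⟨V.ι ''ᵁ (f₁ ⁻¹ᵁ U), ⟨ξ, ⟨⟨ξ, hξV⟩, ?_, rfl⟩⟩, ?_⟩
  · change f₁.base ⟨ξ, hξV⟩ ∈ U
    rw [hf₁ξ]
    exact hηU
  · -- flatness
    have h1 : Flat ((f₁ ∣_ U) ≫ U.ι ≫ Z₁.ι) := inferInstance
    have h2 : (f₁ ∣_ U) ≫ U.ι ≫ Z₁.ι = (f₁ ⁻¹ᵁ U).ι ≫ V.ι ≫ f := by
      rw [← Category.assoc, morphismRestrict_ι, Category.assoc, hf₁ι]
    rw [h2] at h1
    have h3 : (V.ι ''ᵁ (f₁ ⁻¹ᵁ U)).ι =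
        (V.ι.isoImage (f₁ ⁻¹ᵁ U)).inv ≫ (f₁ ⁻¹ᵁ U).ι ≫ V.ι := by
      simp
    rw [h3, Category.assoc, Category.assoc]
    infer_instance

/-- flatness on an open is transported by compatible automorphisms -/
theorem flat_translate {Y Z : Scheme.{u}} (f : Y ⟶ Z) (l : Y ≅ Y) (τ : Z ≅ Z)
    (h : l.hom ≫ f = f ≫ τ.hom) (V : Y.Opens) (hV : Flat (V.ι ≫ f)) :
    Flat ((l.inv ⁻¹ᵁ V).ι ≫ f) := by
  have h1 : (l.inv ⁻¹ᵁ V).ι ≫ f = (l.inv ∣_ V) ≫ (V.ι ≫ f) ≫ τ.hom := by
    rw [Category.assoc, ← h, ← Category.assoc V.ι, ← Category.assoc (l.inv ∣_ V),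
      ← Category.assoc (l.inv ∣_ V), morphismRestrict_ι, Category.assoc, Category.assoc,
      Iso.inv_hom_id_assoc]
  rw [h1]
  infer_instance

variable {K : Type u} [Field K] [IsAlgClosed K]

set_option backward.isDefEq.respectTransparency false in
/-- **Flatness by homogeneity.** -/
theorem flat_of_homogeneous {Y Z : Scheme.{u}} (f : Y ⟶ Z) (pY : Y ⟶ Spec (CommRingCat.of K))
    (pZ : Z ⟶ Spec (CommRingCat.of K)) [LocallyOfFiniteType pY] [LocallyOfFiniteType pZ]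
    (hf : f ≫ pZ = pY) [IsReduced Z] [Surjective f] [Nonempty Y]
    (htrans : ∀ c c' : Spec (CommRingCat.of K) ⟶ Y, c ≫ pY = 𝟙 _ → c' ≫ pY = 𝟙 _ →
      ∃ (l : Y ≅ Y) (τ : Z ≅ Z), l.hom ≫ f = f ≫ τ.hom ∧ c ≫ l.hom = c') : Flat f := by
  haveI : IsLocallyNoetherian Z := LocallyOfFiniteType.isLocallyNoetherian pZ
  haveI : LocallyOfFiniteType (f ≫ pZ) := by rw [hf]; infer_instance
  haveI : LocallyOfFiniteType f := locallyOfFiniteType_of_comp f pZ
  haveI : Nonempty Z := ‹Nonempty Y›.map f.base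
  have hid : Spec.map (CommRingCat.ofHom (algebraMap K K)) = 𝟙 (Spec (CommRingCat.of K)) := by
    change Spec.map (CommRingCat.ofHom (RingHom.id K)) = 𝟙 _
    exact Spec.map_id _
  obtain ⟨V₀, hV₀ne, hV₀⟩ := exists_flat_open f
  obtain ⟨c₀, hc₀, hc₀V⟩ := Homog.exists_Kpoint_mem_open (k := K) (K := K) pY V₀ hV₀ne
  rw [hid] at hc₀
  -- every point has an open neighbourhood on which `f` is flat
  have key : ∀ y : Y, ∃ V : Y.Opens, y ∈ V ∧ Flat (V.ι ≫ f) := by
    by_contra hcon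
    push Not at hcon
    let F : Y.Opens := ⨆ V : {V : Y.Opens // Flat (V.ι ≫ f)}, V.1
    have hF : ((F : Set Y)ᶜ).Nonempty := by
      obtain ⟨y, hy⟩ := hcon
      refine ⟨y, fun hyF => ?_⟩
      obtain ⟨V, hyV⟩ := TopologicalSpace.Opens.mem_iSup.1 hyF
      exact hy V.1 hyV V.2
    obtain ⟨c', hc', hc'F⟩ := Homog.exists_Kpoint_mem_closed (k := K) (K := K) pY _
      F.2.isClosed_compl hF
    rw [hid] at hc'
    obtain ⟨l, τ, hlτ, hl⟩ := htrans c₀ c' hc₀ hc'
    let t : ↥(Spec (CommRingCat.of K)) := IsLocalRing.closedPoint K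
    apply hc'F t
    refine TopologicalSpace.Opens.mem_iSup.2 ⟨⟨l.inv ⁻¹ᵁ V₀, flat_translate f l τ hlτ V₀ hV₀⟩, ?_⟩
    change l.inv.base (c'.base t) ∈ V₀
    rw [← hl, Scheme.Hom.comp_base, TopCat.comp_app, ← Scheme.Hom.comp_apply, Iso.hom_inv_id]
    exact hc₀V t
  choose V hyV hVf using key
  rw [IsZariskiLocalAtSource.iff_of_iSup_eq_top (P := @Flat) V]
  · exact hVf
  · rw [eq_top_iff]
    intro y _
    exact TopologicalSpace.Opens.mem_iSup.2 ⟨y, hyV y⟩

end Groth.Agent.Lib.Helper24.HomogSep
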