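import Mathlib
import Groth.Agent.Lib.Helper24.Orbit.RedSub

/-!
# The reduced subscheme of a scheme (as a special case of `Orbit.redSub`)
-/

set_option autoImplicit false
universe u

open AlgebraicGeometry CategoryTheory Limits TopologicalSpace

namespace Groth.Agent.Lib.Helper24.HomogSep

open Groth.Agent.Lib.Helper24.Orbit

variable (X : Scheme.{u})

theorem isClosed_bdry_univ : IsClosed (closure (Set.univ : Set X) \ Set.univ) := by
  simp

/-- the reduced subscheme -/
noncomputable abbrev red : Scheme.{u} := redSub (Set.univ : Set X) (isClosed_bdry_univ X)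

noncomputable abbrev redι : red X ⟶ X := redSubι (Set.univ : Set X) (isClosed_bdry_univ X)

theorem range_redι : Set.range (redι X).base = Set.univ := range_redSubι _ _

theorem surjective_redι : Function.Surjective (redι X).base :=
  Set.range_eq_univ.1 (range_redι X)

theorem injective_redι : Function.Injective (redι X).base :=
  (redι X).isEmbedding.injective

theorem isOpenMap_redι : IsOpenMap (redι X).base := by
  have h : Topology.IsOpenEmbedding (redι X).base :=
    ⟨(redι X).isEmbedding, by rw [range_redι]; exact isOpen_univ⟩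
  exact h.isOpenMap

variable {X}

theorem exists_red_lift {T : Scheme.{u}} [IsReduced T] (g : T ⟶ X) :
    ∃ g' : T ⟶ red X, g' ≫ redι X = g :=
  exists_lift_redSub _ _ g (Set.subset_univ _)

/-- the morphism induced on reduced subschemes -/
noncomputable def redMap {Y : Scheme.{u}} (f : X ⟶ Y) : red X ⟶ red Y :=
  Classical.choose (exists_red_lift (redι X ≫ f))

theorem redMap_ι {Y : Scheme.{u}} (f : X ⟶ Y) : redMap f ≫ redι Y = redι X ≫ f :=
  Classical.choose_spec (exists_red_lift (redι X ≫ f))

theorem redMap_comp {Y Z : Scheme.{u}} (f : X ⟶ Y) (g : Y ⟶ Z) :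
    redMap f ≫ redMap g = redMap (f ≫ g) := by
  rw [← cancel_mono (redι Z), Category.assoc, redMap_ι, ← Category.assoc, redMap_ι,
    Category.assoc, redMap_ι]

theorem redMap_id : redMap (𝟙 X) = 𝟙 (red X) := by
  rw [← cancel_mono (redι X), redMap_ι, Category.comp_id, Category.id_comp]

/-- an isomorphism induces an isomorphism of reduced subschemes -/
noncomputable def redIso {Y : Scheme.{u}} (e : X ≅ Y) : red X ≅ red Y where
  hom := redMap e.hom
  inv := redMap e.inv
  hom_inv_id := by rw [redMap_comp, e.hom_inv_id, redMap_id]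
  inv_hom_id := by rw [redMap_comp, e.inv_hom_id, redMap_id]

/-- openness can be checked on reduced subschemes -/
theorem isOpenMap_of_redMap {Y : Scheme.{u}} (f : X ⟶ Y) (h : IsOpenMap (redMap f).base) :
    IsOpenMap f.base := by
  intro V hV
  have h1 : f.base '' V = (redι Y).base '' ((redMap f).base '' ((redι X).base ⁻¹' V)) := by
    ext y
    constructor
    · rintro ⟨v, hv, rfl⟩
      obtain ⟨v', rfl⟩ := surjective_redι X v
      refine ⟨(redMap f).base v', ⟨v', hv, rfl⟩, ?_⟩
      rw [← Scheme.Hom.comp_apply, redMap_ι, Scheme.Hom.comp_apply]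
    · rintro ⟨_, ⟨v', hv', rfl⟩, rfl⟩
      refine ⟨(redι X).base v', hv', ?_⟩
      rw [← Scheme.Hom.comp_apply, ← redMap_ι, Scheme.Hom.comp_apply]
  rw [h1]
  exact isOpenMap_redι Y _ (h _ (hV.preimage (redι X).continuous))

end Groth.Agent.Lib.Helper24.HomogSep
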