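import Mathlib
import Groth.Agent.Lib.Helper24.HomogSep.FlatHomog
import Groth.Agent.Lib.Helper24.HomogSep.Red
import Groth.Agent.Lib.Helper24.HomogSep.Transl

/-!
# Surjective orbit maps over an algebraically closed field are open
-/

set_option autoImplicit false
universe u

open CategoryTheory MonoidalCategory CartesianMonoidalCategory MonObj GrpObj AlgebraicGeometry Limits

namespace Groth.Agent.Lib.Helper24.HomogSep

open Groth.Agent.Lib.Helper4.ActShear Groth.Agent.Lib.Helper4.ActShear2

variable {K : Type u} [Field K] [IsAlgClosed K]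

theorem isOpenMap_orbitMap (G X : Over (Spec (CommRingCat.of K))) [GrpObj G]
    [LocallyOfFiniteType G.hom] [LocallyOfFiniteType X.hom] (a : AlgGrp.Action G X)
    (x : 𝟙_ (Over (Spec (CommRingCat.of K))) ⟶ X) (hsurj : Surjective (a.orbitMap x).left) :
    IsOpenMap (a.orbitMap x).left.base := by
  apply isOpenMap_of_redMap
  set o := a.orbitMap x with ho
  let f : red G.left ⟶ red X.left := redMap o.left
  have hfι : f ≫ redι X.left = redι G.left ≫ o.left := redMap_ι _
  let pY : red G.left ⟶ Spec (CommRingCat.of K) := redι G.left ≫ G.hom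
  let pZ : red X.left ⟶ Spec (CommRingCat.of K) := redι X.left ≫ X.hom
  haveI : LocallyOfFiniteType pY := inferInstanceAs (LocallyOfFiniteType (redι G.left ≫ G.hom))
  haveI : LocallyOfFiniteType pZ := inferInstanceAs (LocallyOfFiniteType (redι X.left ≫ X.hom))
  have hf : f ≫ pZ = pY := by
    change f ≫ redι X.left ≫ X.hom = redι G.left ≫ G.hom
    rw [← Category.assoc, hfι, Category.assoc, Over.w o]
  haveI : Surjective f := by
    constructor
    intro z
    obtain ⟨g, hg⟩ := hsurj.surj ((redι X.left).base z)
    obtain ⟨g', rfl⟩ := surjective_redι G.left g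
    refine ⟨g', injective_redι X.left ?_⟩
    rw [← Scheme.Hom.comp_apply, hfι, Scheme.Hom.comp_apply]
    exact hg
  haveI : Nonempty (red G.left) := by
    let t : ↥(Spec (CommRingCat.of K)) := IsLocalRing.closedPoint K
    obtain ⟨g', -⟩ := surjective_redι G.left (η[G].left.base t)
    exact ⟨g'⟩
  haveI : IsLocallyNoetherian (red X.left) := LocallyOfFiniteType.isLocallyNoetherian pZ
  haveI : LocallyOfFiniteType (f ≫ pZ) := by rw [hf]; infer_instance
  haveI : LocallyOfFiniteType f := locallyOfFiniteType_of_comp f pZ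
  haveI : Flat f := by
    refine flat_of_homogeneous f pY pZ hf ?_
    intro c c' hc hc'
    let gc : 𝟙_ (Over (Spec (CommRingCat.of K))) ⟶ G :=
      Over.homMk (c ≫ redι G.left) (by
        change (c ≫ redι G.left) ≫ G.hom = 𝟙 _
        rw [Category.assoc]; exact hc)
    let gc' : 𝟙_ (Over (Spec (CommRingCat.of K))) ⟶ G :=
      Over.homMk (c' ≫ redι G.left) (by
        change (c' ≫ redι G.left) ≫ G.hom = 𝟙 _
        rw [Category.assoc]; exact hc')
    let g : 𝟙_ (Over (Spec (CommRingCat.of K))) ⟶ G := gc' * gc⁻¹
    let L : G.left ≅ G.left := (Over.forget _).mapIso (trIso (selfAct G) g)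
    let τ : X.left ≅ X.left := (Over.forget _).mapIso (trIso a g)
    have hLτ : L.hom ≫ o.left = o.left ≫ τ.hom := by
      change (tr (selfAct G) g).left ≫ o.left = o.left ≫ (tr a g).left
      rw [← Over.comp_left, ← Over.comp_left, ho, tr_orbitMap]
    refine ⟨redIso L, redIso τ, ?_, ?_⟩
    · change redMap L.hom ≫ f = f ≫ redMap τ.hom
      have e1 : redMap L.hom ≫ f ≫ redι X.left = redι G.left ≫ o.left ≫ τ.hom := by
        rw [hfι, ← Category.assoc, redMap_ι, Category.assoc, hLτ]
      have e2 : f ≫ redMap τ.hom ≫ redι X.left = redι G.left ≫ o.left ≫ τ.hom := by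
        rw [redMap_ι, ← Category.assoc, hfι, Category.assoc]
      rw [← cancel_mono (redι X.left), Category.assoc, Category.assoc, e1, e2]
    · change c ≫ redMap L.hom = c'
      rw [← cancel_mono (redι G.left), Category.assoc, redMap_ι]
      change c ≫ redι G.left ≫ (tr (selfAct G) g).left = c' ≫ redι G.left
      have h1 : gc ≫ tr (selfAct G) g = gc' := by
        rw [point_tr]
        change gc' * gc⁻¹ * gc = gc'
        rw [inv_mul_cancel_right]
      have h2 := congrArg (fun m => m.left) h1
      simpa [gc, gc'] using h2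
  haveI : UniversallyOpen f := inferInstance
  exact f.isOpenMap

end Groth.Agent.Lib.Helper24.HomogSep
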