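import Mathlib
import Groth.Agent.Lib.Helper24.HomogSep.OrbitOpen

/-!
# Moving two rational points into a dense open by a common rational point of the group
-/

set_option autoImplicit false
universe u

open CategoryTheory MonoidalCategory CartesianMonoidalCategory MonObj GrpObj AlgebraicGeometry Limits

namespace Groth.Agent.Lib.Helper24.HomogSep

open Groth.Agent.Lib.Helper4.ActShear Groth.Agent.Lib.Helper4.ActShear2

section general

variable {S : Scheme.{u}} {G X : Over S} [GrpObj G] (a : AlgGrp.Action G X)

/-- the orbit map of `x` is the base change of `(g, x') ↦ (g x', x')` along `x' ↦ (x', x)` -/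
theorem isPullback_orbitMap (x : 𝟙_ (Over S) ⟶ X) :
    IsPullback (lift (𝟙 G) (toUnit G ≫ x)) (a.orbitMap x) (lift a.act (snd G X))
      (lift (𝟙 X) (toUnit X ≫ x)) := by
  have w : lift (𝟙 G) (toUnit G ≫ x) ≫ lift a.act (snd G X) =
      a.orbitMap x ≫ lift (𝟙 X) (toUnit X ≫ x) := by
    apply CartesianMonoidalCategory.hom_ext
    · rw [Category.assoc, lift_fst, Category.assoc, lift_fst, Category.comp_id]
      rfl
    · rw [Category.assoc, lift_snd, lift_snd, Category.assoc, lift_snd, ← Category.assoc]
      congr 1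
      exact toUnit_unique _ _
  refine ⟨⟨w⟩, ⟨PullbackCone.IsLimit.mk w (fun s => s.fst ≫ fst G X) ?_ ?_ ?_⟩⟩
  · intro s
    have h2 : s.fst ≫ snd G X = toUnit _ ≫ x := by
      have := congrArg (fun m => m ≫ snd X X) s.condition
      simp only [Category.assoc, lift_snd] at this
      rw [this, ← Category.assoc]
      congr 1
      exact toUnit_unique _ _
    apply CartesianMonoidalCategory.hom_ext
    · rw [Category.assoc, lift_fst, Category.comp_id]
    · rw [Category.assoc, lift_snd, h2, ← Category.assoc]
      congr 1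
      exact toUnit_unique _ _
  · intro s
    have h1 : s.fst ≫ a.act = s.snd := by
      have := congrArg (fun m => m ≫ fst X X) s.condition
      simpa only [Category.assoc, lift_fst, Category.comp_id] using this
    have h2 : s.fst ≫ snd G X = toUnit _ ≫ x := by
      have := congrArg (fun m => m ≫ snd X X) s.condition
      simp only [Category.assoc, lift_snd] at this
      rw [this, ← Category.assoc]
      congr 1
      exact toUnit_unique _ _
    rw [AlgGrp.Action.comp_orbitMap, ← h1]
    congr 1
    apply CartesianMonoidalCategory.hom_ext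
    · rw [lift_fst]
    · rw [lift_snd, h2]
  · intro s m hm _
    rw [← hm, Category.assoc, lift_fst, Category.comp_id]

theorem surjective_orbitMap (hΦ : Surjective (lift a.act (snd G X)).left)
    (x : 𝟙_ (Over S) ⟶ X) : Surjective (a.orbitMap x).left := by
  have h := (isPullback_orbitMap a x).map (Over.forget S)
  exact MorphismProperty.of_isPullback (P := @Surjective) h hΦ

end general

variable {K : Type u} [Field K] [IsAlgClosed K]

theorem exists_point_translate (G X : Over (Spec (CommRingCat.of K))) [GrpObj G]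
    [LocallyOfFiniteType G.hom] [LocallyOfFiniteType X.hom] (a : AlgGrp.Action G X)
    (hΦ : Surjective (lift a.act (snd G X)).left)
    (x y : 𝟙_ (Over (Spec (CommRingCat.of K))) ⟶ X) (W : G.left.Opens)
    (hW : (W : Set G.left).Nonempty) (U : X.left.Opens) (hU : Dense (U : Set X.left)) :
    ∃ g : 𝟙_ (Over (Spec (CommRingCat.of K))) ⟶ G, ∀ t, g.left.base t ∈ W ∧
      (a.orbitMap x).left.base (g.left.base t) ∈ U ∧
      (a.orbitMap y).left.base (g.left.base t) ∈ U := by
  have hox := isOpenMap_orbitMap G X a x (surjective_orbitMap a hΦ x)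
  have hoy := isOpenMap_orbitMap G X a y (surjective_orbitMap a hΦ y)
  have hdx : Dense ((a.orbitMap x).left.base ⁻¹' (U : Set X.left)) := hU.preimage hox
  have hdy : Dense ((a.orbitMap y).left.base ⁻¹' (U : Set X.left)) := hU.preimage hoy
  have hopx : IsOpen ((a.orbitMap x).left.base ⁻¹' (U : Set X.left)) :=
    U.2.preimage (a.orbitMap x).left.continuous
  have hopy : IsOpen ((a.orbitMap y).left.base ⁻¹' (U : Set X.left)) :=
    U.2.preimage (a.orbitMap y).left.continuous
  have hd : Dense ((a.orbitMap x).left.base ⁻¹' (U : Set X.left) ∩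
      (a.orbitMap y).left.base ⁻¹' (U : Set X.left)) := hdx.inter_of_isOpen_left hdy hopx
  obtain ⟨p, hpW, hpx, hpy⟩ := hd.inter_open_nonempty W W.2 hW
  let V : G.left.Opens := W ⊓ (⟨_, hopx⟩ ⊓ ⟨_, hopy⟩)
  obtain ⟨g₀, hg₀, hg₀V⟩ := Homog.exists_Kpoint_mem_open (k := K) (K := K) G.hom V
    ⟨p, hpW, hpx, hpy⟩
  have hid : Spec.map (CommRingCat.ofHom (algebraMap K K)) = 𝟙 (Spec (CommRingCat.of K)) := by
    change Spec.map (CommRingCat.ofHom (RingHom.id K)) = 𝟙 _
    exact Spec.map_id _
  rw [hid] at hg₀
  refine ⟨Over.homMk g₀ hg₀, fun t => ?_⟩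
  obtain ⟨h1, h2, h3⟩ := hg₀V t
  exact ⟨h1, h2, h3⟩

end Groth.Agent.Lib.Helper24.HomogSep
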