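import Mathlib
import Groth.Prelude.Def_ChGrp
import Groth.Agent.Lib.Helper24.Orbit.Stable

/-!
# The closure of a stable subset, and the closure of the diagonal inside a separated open
-/

set_option autoImplicit false
universe u

open CategoryTheory MonoidalCategory CartesianMonoidalCategory MonObj GrpObj AlgebraicGeometry Limits

namespace Groth.Agent.Lib.Helper24.HomogSep

open Groth.Agent.Lib.Helper4 Groth.Agent.Lib.Helper4.ActShear Groth.Agent.Lib.Helper4.ActShear2
  Groth.Agent.Lib.Helper4.MaxOpen Groth.Agent.Lib.Helper4.MaxOpenGrp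
  Groth.Agent.Lib.Helper24.Homog Groth.Agent.Lib.Helper24.Orbit

variable {S : Scheme.{u}} {G X : Over S} [GrpObj G] (a : AlgGrp.Action G X)

/-- the image of an equivariant morphism is stable -/
theorem isStable_range_of_equivariant {Y : Over S} (b : AlgGrp.Action G Y) (f : Y ⟶ X)
    (hf : (G ◁ f) ≫ a.act = b.act ≫ f) : IsStable a (Set.range f.left.base) := by
  have hsq1 := isPullback_whiskerLeft G Y X f
  have hsq2 := isPullback_act_of_equivariant b a f hf
  unfold IsStable
  have e1 : (snd G X).left.base ⁻¹' Set.range f.left.base =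
      Set.range (G ◁ f).left.base := by
    ext w
    constructor
    · rintro ⟨g, hg⟩
      obtain ⟨z, hz1, hz2⟩ := Scheme.Pullback.exists_preimage_pullback
        (f := (snd G X).left) (g := f.left) w g hg.symm
      refine ⟨hsq1.isoPullback.inv.base z, ?_⟩
      rw [← Scheme.Hom.comp_apply, hsq1.isoPullback_inv_fst]
      exact hz1
    · rintro ⟨z, rfl⟩
      refine ⟨(snd G Y).left.base z, ?_⟩
      change _ = (snd G X).left.base ((G ◁ f).left.base z)
      rw [← Scheme.Hom.comp_apply, ← Scheme.Hom.comp_apply, hsq1.w]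
  have e2 : a.act.left.base ⁻¹' Set.range f.left.base =
      Set.range (G ◁ f).left.base := by
    ext w
    constructor
    · rintro ⟨g, hg⟩
      obtain ⟨z, hz1, hz2⟩ := Scheme.Pullback.exists_preimage_pullback
        (f := a.act.left) (g := f.left) w g hg.symm
      refine ⟨hsq2.isoPullback.inv.base z, ?_⟩
      rw [← Scheme.Hom.comp_apply, hsq2.isoPullback_inv_fst]
      exact hz1
    · rintro ⟨z, rfl⟩
      refine ⟨b.act.left.base z, ?_⟩
      change _ = a.act.left.base ((G ◁ f).left.base z)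
      rw [← Scheme.Hom.comp_apply, ← Scheme.Hom.comp_apply, hsq2.w]
  rw [e1, e2]

/-- acting by points of an open of `G` which is universally open over the base preserves the
closure of a stable subset -/
theorem mem_closure_act_of_mem_closure_snd {D : Set X.left} (hD : IsStable a D)
    (W : G.left.Opens) [UniversallyOpen (W.ι ≫ G.hom)] (w : (G ⊗ X).left)
    (hwW : (fst G X).left.base w ∈ W) (hw : (snd G X).left.base w ∈ closure D) :
    a.act.left.base w ∈ closure D := by
  let W' : (G ⊗ X).left.Opens := (fst G X).left ⁻¹ᵁ W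
  have hA := isPullback_morphismRestrict (fst G X).left W
  have hB : IsPullback (fst G X).left (snd G X).left G.hom X.hom :=
    IsPullback.of_hasPullback G.hom X.hom
  have hC := hA.paste_vert hB
  haveI : UniversallyOpen (W'.ι ≫ (snd G X).left) :=
    MorphismProperty.of_isPullback (P := @UniversallyOpen) hC inferInstance
  by_contra hcon
  let O : (G ⊗ X).left.Opens :=
    ⟨a.act.left.base ⁻¹' (closure D)ᶜ, isClosed_closure.isOpen_compl.preimage a.act.left.continuous⟩
  have hN : IsOpen ((W'.ι ≫ (snd G X).left).base '' (W'.ι.base ⁻¹' (O : Set (G ⊗ X).left))) :=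
    (W'.ι ≫ (snd G X).left).isOpenMap _ (O.2.preimage W'.ι.continuous)
  have hwN : (snd G X).left.base w ∈
      (W'.ι ≫ (snd G X).left).base '' (W'.ι.base ⁻¹' (O : Set (G ⊗ X).left)) := by
    exact ⟨⟨w, hwW⟩, hcon, rfl⟩
  obtain ⟨_, ⟨w', hw'O, rfl⟩, hw'D⟩ := mem_closure_iff.1 hw _ hN hwN
  rw [Scheme.Hom.comp_apply] at hw'D
  have h1 : W'.ι.base w' ∈ (snd G X).left.base ⁻¹' D := hw'D
  rw [← hD] at h1
  exact hw'O (subset_closure h1)

/-- the diagonal of `X` over `S` -/
noncomputable abbrev diag (X : Over S) : X ⟶ X ⊗ X := lift (𝟙 X) (𝟙 X)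

theorem eq_comp_diag {A X : Over S} (q : A ⟶ X ⊗ X) (h : q ≫ fst X X = q ≫ snd X X) :
    q = (q ≫ fst X X) ≫ diag X := by
  apply CartesianMonoidalCategory.hom_ext
  · rw [Category.assoc, lift_fst, Category.comp_id]
  · rw [Category.assoc, lift_snd, Category.comp_id, h]

/-- a point of the closure of the diagonal both of whose projections lie in an open `U` separated
over the base lies on the diagonal -/
theorem mem_range_diag_of_mem_closure (X : Over S) (U : X.left.Opens)
    [IsSeparated (U.ι ≫ X.hom)] (z : (X ⊗ X).left)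
    (hz : z ∈ closure (Set.range (diag X).left.base))
    (h1 : (fst X X).left.base z ∈ U) (h2 : (snd X X).left.base z ∈ U) :
    z ∈ Set.range (diag X).left.base := by
  let T : (X ⊗ X).left.Opens := (fst X X).left ⁻¹ᵁ U ⊓ (snd X X).left ⁻¹ᵁ U
  let T' : Over S := Over.mk (T.ι ≫ (X ⊗ X).hom)
  let U' : Over S := Over.mk (U.ι ≫ X.hom)
  let τ : T' ⟶ X ⊗ X := Over.homMk T.ι rfl
  let υ : U' ⟶ X := Over.homMk U.ι rfl
  haveI : Mono υ := (Over.forget _).mono_of_mono_map (inferInstanceAs (Mono U.ι))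
  have hr1 : Set.range (T.ι ≫ (fst X X).left).base ⊆ Set.range U.ι.base := by
    rintro _ ⟨t, rfl⟩
    rw [Scheme.Opens.range_ι, Scheme.Hom.comp_apply]
    exact t.2.1
  have hr2 : Set.range (T.ι ≫ (snd X X).left).base ⊆ Set.range U.ι.base := by
    rintro _ ⟨t, rfl⟩
    rw [Scheme.Opens.range_ι, Scheme.Hom.comp_apply]
    exact t.2.2
  let f₁ : T' ⟶ U' := Over.homMk (IsOpenImmersion.lift U.ι (T.ι ≫ (fst X X).left) hr1) (by
    change IsOpenImmersion.lift U.ι (T.ι ≫ (fst X X).left) hr1 ≫ U.ι ≫ X.hom = T.ι ≫ (X ⊗ X).hom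
    rw [IsOpenImmersion.lift_fac_assoc, Category.assoc, Over.w (fst X X)])
  let f₂ : T' ⟶ U' := Over.homMk (IsOpenImmersion.lift U.ι (T.ι ≫ (snd X X).left) hr2) (by
    change IsOpenImmersion.lift U.ι (T.ι ≫ (snd X X).left) hr2 ≫ U.ι ≫ X.hom = T.ι ≫ (X ⊗ X).hom
    rw [IsOpenImmersion.lift_fac_assoc, Category.assoc, Over.w (snd X X)])
  have hf₁ : f₁ ≫ υ = τ ≫ fst X X := by
    ext1
    exact IsOpenImmersion.lift_fac _ _ _
  have hf₂ : f₂ ≫ υ = τ ≫ snd X X := by
    ext1
    exact IsOpenImmersion.lift_fac _ _ _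
  haveI : IsSeparated U'.hom := inferInstanceAs (IsSeparated (U.ι ≫ X.hom))
  let e : (equalizer f₁ f₂).left ⟶ T.toScheme := (equalizer.ι f₁ f₂).left
  haveI : IsClosedImmersion e := isClosedImmersion_equalizer_ι_left f₁ f₂
  -- the range of `e` is the trace of the diagonal
  have hi : Set.range e.base ⊆ T.ι.base ⁻¹' Set.range (diag X).left.base := by
    rintro _ ⟨p, rfl⟩
    let qo : equalizer f₁ f₂ ⟶ X ⊗ X := equalizer.ι f₁ f₂ ≫ τ
    have hq : qo ≫ fst X X = qo ≫ snd X X := by
      change (equalizer.ι f₁ f₂ ≫ τ) ≫ fst X X = (equalizer.ι f₁ f₂ ≫ τ) ≫ snd X X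
      rw [Category.assoc, Category.assoc, ← hf₁, ← hf₂, ← Category.assoc, ← Category.assoc,
        equalizer.condition]
    have hq2 : qo = (qo ≫ fst X X) ≫ diag X := eq_comp_diag qo hq
    refine ⟨(qo ≫ fst X X).left.base p, ?_⟩
    rw [← Scheme.Hom.comp_apply, ← Over.comp_left, ← hq2]
    rfl
  have hii : T.ι.base ⁻¹' Set.range (diag X).left.base ⊆ Set.range e.base := by
    rintro t ⟨x₀, hx₀⟩
    have hfd : (diag X ≫ fst X X).left = 𝟙 _ := by rw [lift_fst]; rfl
    have hx₀U : x₀ ∈ U := by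
      have h3 : (fst X X).left.base ((diag X).left.base x₀) = x₀ := by
        rw [← Scheme.Hom.comp_apply, ← Over.comp_left, hfd]
        rfl
      rw [← h3, hx₀]
      exact t.2.1
    have hrd : Set.range (U.ι ≫ (diag X).left).base ⊆ Set.range T.ι.base := by
      rintro _ ⟨u, rfl⟩
      rw [Scheme.Opens.range_ι, Scheme.Hom.comp_apply]
      constructor
      · change (fst X X).left.base ((diag X).left.base (U.ι.base u)) ∈ U
        rw [← Scheme.Hom.comp_apply, ← Over.comp_left, lift_fst]
        exact u.2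
      · change (snd X X).left.base ((diag X).left.base (U.ι.base u)) ∈ U
        rw [← Scheme.Hom.comp_apply, ← Over.comp_left, lift_snd]
        exact u.2
    let d : U' ⟶ T' := Over.homMk (IsOpenImmersion.lift T.ι (U.ι ≫ (diag X).left) hrd) (by
      change IsOpenImmersion.lift T.ι (U.ι ≫ (diag X).left) hrd ≫ T.ι ≫ (X ⊗ X).hom = U.ι ≫ X.hom
      rw [IsOpenImmersion.lift_fac_assoc, Category.assoc, Over.w (diag X)])
    have hdτ : d ≫ τ = υ ≫ diag X := by
      apply Over.OverMorphism.ext
      exact IsOpenImmersion.lift_fac T.ι (U.ι ≫ (diag X).left) hrd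
    have hd1 : d ≫ f₁ = 𝟙 U' := by
      rw [← cancel_mono υ, Category.assoc, hf₁, ← Category.assoc, hdτ, Category.assoc, lift_fst,
        Category.comp_id, Category.id_comp]
    have hd2 : d ≫ f₂ = 𝟙 U' := by
      rw [← cancel_mono υ, Category.assoc, hf₂, ← Category.assoc, hdτ, Category.assoc, lift_snd,
        Category.comp_id, Category.id_comp]
    let k : U' ⟶ equalizer f₁ f₂ := equalizer.lift d (by rw [hd1, hd2])
    have hk : k ≫ equalizer.ι f₁ f₂ = d := equalizer.lift_ι _ _
    refine ⟨k.left.base ⟨x₀, hx₀U⟩, ?_⟩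
    change (k ≫ equalizer.ι f₁ f₂).left.base _ = t
    rw [hk]
    apply T.ι.isOpenEmbedding.injective
    rw [← hx₀]
    change (d ≫ τ).left.base _ = _
    rw [hdτ]
    rfl
  have heq : T.ι.base ⁻¹' Set.range (diag X).left.base = Set.range e.base :=
    Set.Subset.antisymm hii hi
  have hcl : IsClosed (T.ι.base ⁻¹' Set.range (diag X).left.base) := by
    rw [heq]
    exact e.isClosedEmbedding.isClosed_range
  have hz' : (⟨z, h1, h2⟩ : T) ∈ closure (T.ι.base ⁻¹' Set.range (diag X).left.base) := by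
    rw [← T.ι.isOpenEmbedding.isOpenMap.preimage_closure_eq_closure_preimage T.ι.continuous]
    exact hz
  rw [hcl.closure_eq] at hz'
  exact hz'

end Groth.Agent.Lib.Helper24.HomogSep
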