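import Mathlib
import Groth.Agent.Lib.Helper24.HomogSep.FieldCase
import Groth.Agent.Lib.Helper24.HomogSep.Closure
import Groth.Agent.Lib.Helper24.HomogSep.BaseChange

/-!
# Separatedness of homogeneous spaces (SGA3 VI_B 5.2)
-/

set_option autoImplicit false
universe u

open CategoryTheory MonoidalCategory CartesianMonoidalCategory MonObj GrpObj AlgebraicGeometry Limits

namespace Groth.Agent.Lib.Helper24.HomogSep

open Groth.Agent.Lib.Helper24.Orbit

variable {S : Scheme.{u}} {G X : Over S} [GrpObj G] (a : AlgGrp.Action G X)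

theorem diag_equivariant : (G ◁ diag X) ≫ (a.prod a).act = a.act ≫ diag X := by
  rw [AlgGrp.Action.prod_act]
  apply CartesianMonoidalCategory.hom_ext
  · rw [Category.assoc, lift_fst, ← MonoidalCategory.whiskerLeft_comp_assoc, lift_fst,
      MonoidalCategory.whiskerLeft_id, Category.id_comp, Category.assoc, lift_fst,
      Category.comp_id]
  · rw [Category.assoc, lift_snd, ← MonoidalCategory.whiskerLeft_comp_assoc, lift_snd,
      MonoidalCategory.whiskerLeft_id, Category.id_comp, Category.assoc, lift_snd,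
      Category.comp_id]

theorem diag_left_eq : (diag X).left = pullback.diagonal X.hom := by
  apply pullback.hom_ext
  · have : (diag X).left ≫ pullback.fst X.hom X.hom = (diag X ≫ fst X X).left := rfl
    rw [this, lift_fst]
    simp
  · have : (diag X).left ≫ pullback.snd X.hom X.hom = (diag X ≫ snd X X).left := rfl
    rw [this, lift_snd]
    simp

/-- the key step: a point of the closure of the diagonal lies on the diagonal -/
theorem mem_range_diag (W : G.left.Opens)
    (hW1 : ∀ p : ↥(𝟙_ (Over S)).left, η[G].left.base p ∈ W) [UniversallyOpen (W.ι ≫ G.hom)]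
    [LocallyOfFiniteType G.hom]
    (hΦ : Surjective (lift a.act (snd G X)).left)
    (hft : ∀ s : S, LocallyOfFiniteType (X.hom.fiberToSpecResidueField s))
    (hU : ∀ s : S, ∃ U : X.left.Opens, IsSeparated (U.ι ≫ X.hom) ∧
      X.hom.base ⁻¹' {s} ⊆ closure ((U : Set X.left) ∩ X.hom.base ⁻¹' {s}))
    (z : (X ⊗ X).left) (hz : z ∈ closure (Set.range (diag X).left.base)) :
    z ∈ Set.range (diag X).left.base := by
  have hD : IsStable (a.prod a) (Set.range (diag X).left.base) :=
    isStable_range_of_equivariant (a.prod a) a (diag X) (diag_equivariant a)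
  set s : S := (X ⊗ X).hom.base z with hs
  obtain ⟨U, hUsep, hUd⟩ := hU s
  haveI := hUsep
  haveI := hft s
  let κ := (X ⊗ X).left.residueField z
  let K := AlgebraicClosure κ
  let α : (X ⊗ X).left.residueField z ⟶ CommRingCat.of K :=
    CommRingCat.ofHom (algebraMap κ K)
  let ψ : S.residueField s ⟶ CommRingCat.of K := (X ⊗ X).hom.residueFieldMap z ≫ α
  let t : Spec (CommRingCat.of K) ⟶ S := Spec.map ψ ≫ S.fromSpecResidueField s
  let zb : Spec (CommRingCat.of K) ⟶ (X ⊗ X).left :=
    Spec.map α ≫ (X ⊗ X).left.fromSpecResidueField z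
  have hzb : zb ≫ (X ⊗ X).hom = t := by
    change (Spec.map α ≫ (X ⊗ X).left.fromSpecResidueField z) ≫ (X ⊗ X).hom =
      Spec.map ((X ⊗ X).hom.residueFieldMap z ≫ α) ≫ S.fromSpecResidueField s
    rw [Spec.map_comp, Category.assoc, Category.assoc,
      Scheme.Hom.SpecMap_residueFieldMap_fromSpecResidueField]
  let pt : ↥(Spec (CommRingCat.of K)) := IsLocalRing.closedPoint K
  have hzbpt : zb.base pt = z := by
    change (Spec.map α ≫ (X ⊗ X).left.fromSpecResidueField z).base pt = z
    rw [Scheme.Hom.comp_apply]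
    exact Scheme.fromSpecResidueField_apply _ _
  -- base change to `K`
  let GK : Over (Spec (CommRingCat.of K)) := Red.bc t G
  let XK : Over (Spec (CommRingCat.of K)) := Red.bc t X
  let aK : AlgGrp.Action GK XK := a.bc t
  haveI : LocallyOfFiniteType GK.hom :=
    inferInstanceAs (LocallyOfFiniteType (pullback.snd G.hom t))
  haveI : LocallyOfFiniteType XK.hom := locallyOfFiniteType_snd X.hom s ψ
  have hΦK : Surjective (lift aK.act (snd GK XK)).left := surjective_bc t a hΦ
  let T₀ : Over S := (Over.map t).obj (𝟙_ (Over (Spec (CommRingCat.of K))))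
  let z' : T₀ ⟶ X ⊗ X := Over.homMk zb (by
    change zb ≫ (X ⊗ X).hom = 𝟙 _ ≫ t
    rw [hzb, Category.id_comp])
  let x' : T₀ ⟶ X := z' ≫ fst X X
  let y' : T₀ ⟶ X := z' ≫ snd X X
  have hz'xy : z' = lift x' y' := by
    apply CartesianMonoidalCategory.hom_ext
    · rw [lift_fst]
    · rw [lift_snd]
  let xb : 𝟙_ (Over (Spec (CommRingCat.of K))) ⟶ XK :=
    (Over.mapPullbackAdj t).homEquiv _ X x'
  let yb : 𝟙_ (Over (Spec (CommRingCat.of K))) ⟶ XK :=
    (Over.mapPullbackAdj t).homEquiv _ X y'
  have hhe : ∀ (Y : Over S) (m : T₀ ⟶ Y),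
      ((Over.mapPullbackAdj t).homEquiv (𝟙_ (Over (Spec (CommRingCat.of K)))) Y m).left ≫
        pullback.fst Y.hom t = m.left := by
    intro Y m
    simp [Adjunction.homEquiv_unit]
    rw [pullback.lift_fst, pullback.lift_fst_assoc, Category.id_comp]
  let WK : GK.left.Opens := pullback.fst G.hom t ⁻¹ᵁ W
  let UK : XK.left.Opens := pullback.fst X.hom t ⁻¹ᵁ U
  have hWK : (WK : Set GK.left).Nonempty := by
    let g₁ : T₀ ⟶ G := toUnit T₀ ≫ η[G]
    refine ⟨((Over.mapPullbackAdj t).homEquiv _ G g₁).left.base pt, ?_⟩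
    change (pullback.fst G.hom t).base _ ∈ W
    rw [← Scheme.Hom.comp_apply, hhe G g₁]
    change η[G].left.base ((toUnit T₀).left.base pt) ∈ W
    exact hW1 _
  have hUK : Dense (UK : Set XK.left) := dense_preimage_of_fibre_dense X.hom s ψ U hUd
  obtain ⟨gb, hgb⟩ := exists_point_translate GK XK aK hΦK xb yb WK hWK UK hUK
  obtain ⟨h1, h2, h3⟩ := hgb pt
  let g' : T₀ ⟶ G := ((Over.mapPullbackAdj t).homEquiv _ G).symm gb
  have hg' : (Over.mapPullbackAdj t).homEquiv _ G g' = gb := Equiv.apply_symm_apply _ _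
  -- the orbit maps
  have horb : ∀ (v' : T₀ ⟶ X),
      (pullback.fst X.hom t).base ((aK.orbitMap ((Over.mapPullbackAdj t).homEquiv _ X v')).left.base
        (gb.left.base pt)) = (lift g' v' ≫ a.act).left.base pt := by
    intro v'
    have e1 : gb ≫ aK.orbitMap ((Over.mapPullbackAdj t).homEquiv _ X v') =
        (Over.mapPullbackAdj t).homEquiv _ X (lift g' v' ≫ a.act) := by
      rw [AlgGrp.Action.comp_orbitMap, toUnit_unique (toUnit (𝟙_ (Over (Spec (CommRingCat.of K)))))
        (𝟙 _), Category.id_comp, ← hg']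
      exact AlgGrp.Action.lift_homEquiv_bc_act t a g' v'
    have e2 : (aK.orbitMap ((Over.mapPullbackAdj t).homEquiv _ X v')).left.base
        (gb.left.base pt) =
        (gb ≫ aK.orbitMap ((Over.mapPullbackAdj t).homEquiv _ X v')).left.base pt := rfl
    rw [e2, e1, ← Scheme.Hom.comp_apply, hhe]
  -- the point `w`
  let wb : T₀ ⟶ G ⊗ (X ⊗ X) := lift g' z'
  let w : (G ⊗ (X ⊗ X)).left := wb.left.base pt
  have hwsnd : (snd G (X ⊗ X)).left.base w = z := by
    change (wb ≫ snd G (X ⊗ X)).left.base pt = z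
    rw [lift_snd]
    exact hzbpt
  have hwfst : (fst G (X ⊗ X)).left.base w ∈ W := by
    change (wb ≫ fst G (X ⊗ X)).left.base pt ∈ W
    rw [lift_fst]
    have : g'.left = gb.left ≫ pullback.fst G.hom t := by
      change (((Over.mapPullbackAdj t).homEquiv _ G).symm gb).left = _
      simp [Adjunction.homEquiv_counit]
    rw [this, Scheme.Hom.comp_apply]
    exact h1
  have hwact : wb ≫ (a.prod a).act = lift (lift g' x' ≫ a.act) (lift g' y' ≫ a.act) := by
    change lift g' z' ≫ (a.prod a).act = _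
    rw [hz'xy, AlgGrp.Action.lift_prod_act]
  have hact1 : (fst X X).left.base ((a.prod a).act.left.base w) ∈ U := by
    change ((wb ≫ (a.prod a).act) ≫ fst X X).left.base pt ∈ U
    rw [hwact, lift_fst, ← horb x']
    exact h2
  have hact2 : (snd X X).left.base ((a.prod a).act.left.base w) ∈ U := by
    change ((wb ≫ (a.prod a).act) ≫ snd X X).left.base pt ∈ U
    rw [hwact, lift_snd, ← horb y']
    exact h3
  have hcl : (a.prod a).act.left.base w ∈ closure (Set.range (diag X).left.base) :=
    mem_closure_act_of_mem_closure_snd (a.prod a) hD W w hwfst (by rw [hwsnd]; exact hz)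
  have hmem : (a.prod a).act.left.base w ∈ Set.range (diag X).left.base :=
    mem_range_diag_of_mem_closure X U _ hcl hact1 hact2
  have hw' : w ∈ (a.prod a).act.left.base ⁻¹' Set.range (diag X).left.base := hmem
  rw [hD] at hw'
  rw [← hwsnd]
  exact hw'

/-- **SGA3 VI_B 5.2.** -/
theorem isSeparated_of_homogeneous [LocallyOfFiniteType G.hom]
    (hGo : ∃ W : G.left.Opens, (∀ p : ↥(𝟙_ (Over S)).left, η[G].left.base p ∈ W) ∧
      UniversallyOpen (W.ι ≫ G.hom))
    (hΦ : Surjective (lift a.act (snd G X)).left)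
    (hft : ∀ s : S, LocallyOfFiniteType (X.hom.fiberToSpecResidueField s))
    (hU : ∀ s : S, ∃ U : X.left.Opens, IsSeparated (U.ι ≫ X.hom) ∧
      X.hom.base ⁻¹' {s} ⊆ closure ((U : Set X.left) ∩ X.hom.base ⁻¹' {s})) :
    IsSeparated X.hom := by
  obtain ⟨W, hW1, hW2⟩ := hGo
  haveI := hW2
  have hclosed : IsClosed (Set.range (pullback.diagonal X.hom).base) := by
    rw [← diag_left_eq]
    apply isClosed_of_closure_subset
    intro z hz
    exact mem_range_diag a W hW1 hΦ hft hU z hz
  exact ⟨IsClosedImmersion.of_isPreimmersion _ hclosed⟩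

end Groth.Agent.Lib.Helper24.HomogSep
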