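import Mathlib
import Groth.Agent.Lib.Helper24.HomogSep.Main
import Groth.Agent.Lib.Helper24.HomogSep.GrpIrr
import Groth.Agent.Lib.Helper24.FixEtale.Conn

/-!
# Homogeneous spaces under groups with connected fibres are separated (SGA3 VI_B 5.3-5.5)
-/

set_option autoImplicit false
universe u

open CategoryTheory MonoidalCategory CartesianMonoidalCategory MonObj GrpObj AlgebraicGeometry Limits

namespace Groth.Agent.Lib.Helper24.HomogSep

variable {S : Scheme.{u}} {G X : Over S} [GrpObj G] (a : AlgGrp.Action G X)

/-- the fibres of a homogeneous space under a group with connected fibres are irreducible -/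
theorem isPreirreducible_fibre [LocallyOfFiniteType G.hom] [UniversallyOpen G.hom]
    (hconn : ∀ s : S, ConnectedSpace (G.hom.fiber s))
    (hΦ : Surjective (lift a.act (snd G X)).left) (x₀ : X.left) :
    IsPreirreducible (X.hom.base ⁻¹' {X.hom.base x₀}) := by
  set s : S := X.hom.base x₀ with hs
  let κ := X.left.residueField x₀
  let K := AlgebraicClosure κ
  let α : X.left.residueField x₀ ⟶ CommRingCat.of K := CommRingCat.ofHom (algebraMap κ K)
  let ψ : S.residueField s ⟶ CommRingCat.of K := X.hom.residueFieldMap x₀ ≫ α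
  let t : Spec (CommRingCat.of K) ⟶ S := Spec.map ψ ≫ S.fromSpecResidueField s
  let xb : Spec (CommRingCat.of K) ⟶ X.left := Spec.map α ≫ X.left.fromSpecResidueField x₀
  have hxb : xb ≫ X.hom = t := by
    change (Spec.map α ≫ X.left.fromSpecResidueField x₀) ≫ X.hom =
      Spec.map (X.hom.residueFieldMap x₀ ≫ α) ≫ S.fromSpecResidueField s
    rw [Spec.map_comp, Category.assoc, Category.assoc,
      Scheme.Hom.SpecMap_residueFieldMap_fromSpecResidueField]
  let GK : Over (Spec (CommRingCat.of K)) := Red.bc t G
  let XK : Over (Spec (CommRingCat.of K)) := Red.bc t X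
  let aK : AlgGrp.Action GK XK := a.bc t
  haveI : LocallyOfFiniteType GK.hom :=
    inferInstanceAs (LocallyOfFiniteType (pullback.snd G.hom t))
  haveI : GeometricallyConnected G.hom :=
    Groth.Agent.Lib.Helper24.FixEtale.geometricallyConnected_of_connected_fibres G hconn
  haveI : ConnectedSpace ↥(pullback t G.hom) := inferInstance
  haveI : ConnectedSpace GK.left := by
    change ConnectedSpace ↥(pullback G.hom t)
    exact (pullbackSymmetry t G.hom).hom.homeomorph.surjective.connectedSpace
      (pullbackSymmetry t G.hom).hom.continuous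
  haveI : IrreducibleSpace GK.left := irreducibleSpace_of_grpObj K GK
  have hΦK : Surjective (lift aK.act (snd GK XK)).left := surjective_bc t a hΦ
  let T₀ : Over S := (Over.map t).obj (𝟙_ (Over (Spec (CommRingCat.of K))))
  let x' : T₀ ⟶ X := Over.homMk xb (by
    change xb ≫ X.hom = 𝟙 _ ≫ t
    rw [hxb, Category.id_comp])
  let xK : 𝟙_ (Over (Spec (CommRingCat.of K))) ⟶ XK := (Over.mapPullbackAdj t).homEquiv _ X x'
  have hsurj : Surjective (aK.orbitMap xK).left := surjective_orbitMap aK hΦK xK
  have hirr : IsIrreducible (Set.univ : Set XK.left) := by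
    have h1 : IsIrreducible (Set.univ : Set GK.left) := (irreducibleSpace_def _).1 inferInstance
    have h2 := h1.image (aK.orbitMap xK).left.base
      (aK.orbitMap xK).left.continuous.continuousOn
    rwa [Set.image_univ, Set.range_eq_univ.2 hsurj.surj] at h2
  have hrange : Set.range (pullback.fst X.hom t).base = X.hom.base ⁻¹' {s} := by
    rw [Scheme.Pullback.range_fst]
    congr 1
    apply Set.Subset.antisymm
    · rintro _ ⟨p, rfl⟩
      change (Spec.map ψ ≫ S.fromSpecResidueField s).base p ∈ ({s} : Set S)
      rw [Scheme.Hom.comp_apply, Scheme.fromSpecResidueField_apply]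
      rfl
    · rintro _ rfl
      let pt : ↥(Spec (CommRingCat.of K)) := IsLocalRing.closedPoint K
      refine ⟨pt, ?_⟩
      change (Spec.map ψ ≫ S.fromSpecResidueField s).base pt = s
      rw [Scheme.Hom.comp_apply, Scheme.fromSpecResidueField_apply]
  have h3 := hirr.image (pullback.fst X.hom t).base
    (pullback.fst X.hom t).continuous.continuousOn
  rw [Set.image_univ, hrange] at h3
  exact h3.isPreirreducible

/-- **SGA3 VI_B 5.5 (finite type case).** -/
theorem isSeparated_of_connected_fibres [LocallyOfFiniteType G.hom] [UniversallyOpen G.hom]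
    (hconn : ∀ s : S, _root_.IsConnected (G.hom.base ⁻¹' {s})) [LocallyOfFiniteType X.hom]
    (hΦ : Surjective (lift a.act (snd G X)).left) : IsSeparated X.hom := by
  have hconn' : ∀ s : S, ConnectedSpace (G.hom.fiber s) := by
    intro s
    haveI : ConnectedSpace ↥(G.hom.base ⁻¹' {s}) := isConnected_iff_connectedSpace.1 (hconn s)
    exact (G.hom.fiberHomeo s).symm.surjective.connectedSpace (G.hom.fiberHomeo s).symm.continuous
  refine isSeparated_of_homogeneous a ⟨⊤, fun _ => trivial, inferInstance⟩ hΦ
    (fun s => inferInstanceAs (LocallyOfFiniteType (pullback.snd X.hom (S.fromSpecResidueField s))))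
    ?_
  intro s
  by_cases hne : (X.hom.base ⁻¹' {s}).Nonempty
  · obtain ⟨x₀, hx₀⟩ := hne
    have hx₀' : X.hom.base x₀ = s := hx₀
    subst hx₀'
    obtain ⟨U, hU, hx₀U, -⟩ :=
      exists_isAffineOpen_mem_and_subset (x := x₀) (U := (⊤ : X.left.Opens)) trivial
    haveI : IsAffine U.toScheme := hU
    refine ⟨U, inferInstance, ?_⟩
    have hirr := isPreirreducible_fibre a hconn' hΦ x₀
    intro y hy
    rw [mem_closure_iff]
    intro O hO hyO
    obtain ⟨p, hp1, hp2, hp3⟩ := hirr O U hO U.2 ⟨y, hy, hyO⟩ ⟨x₀, rfl, hx₀U⟩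
    exact ⟨p, hp2, hp3, hp1⟩
  · refine ⟨⊥, ?_, ?_⟩
    · haveI : IsAffine (⊥ : X.left.Opens).toScheme := isAffineOpen_bot X.left
      infer_instance
    · rw [Set.not_nonempty_iff_eq_empty.1 hne]
      exact Set.empty_subset _

end Groth.Agent.Lib.Helper24.HomogSep
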